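import Groth.Agent.MulFormLib.Mul
import Mathlib.CategoryTheory.Limits.Shapes.WidePullbacks

/-!
# Finite surjective morphisms `(P^1)^n ⟶ P^n` over a base
-/

set_option autoImplicit false
set_option linter.style.haveILetI false
universe u

open CategoryTheory CategoryTheory.Limits AlgebraicGeometry
open ChowLib

noncomputable section

namespace MulFormLib

variable (S : Scheme.{u})

attribute [local simp] WidePullback.lift_π WidePullback.lift_base WidePullback.lift_π_assoc
  WidePullback.lift_base_assoc

/-- Multiplication of forms over `S`. -/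
def mulOver (n : ℕ) : pullback (CohB1.ProjSpaceOver.toBase n S) (CohB1.ProjSpaceOver.toBase 1 S) ⟶
    CohB1.ProjSpaceOver (n + 1) S :=
  poLift (toQ S n 1 ≫ mulZ) (pullback.fst _ _ ≫ CohB1.ProjSpaceOver.toBase n S)

@[reassoc]
lemma mulOver_toBase (n : ℕ) : mulOver S n ≫ CohB1.ProjSpaceOver.toBase (n + 1) S =
    pullback.fst _ _ ≫ CohB1.ProjSpaceOver.toBase n S := poLift_toBase _ _

lemma isPullback_mulOver (n : ℕ) :
    IsPullback (toQ S n 1) (mulOver S n) mulZ (toPZ (n + 1) S) := by
  refine IsPullback.of_bot ?_ ?_ (isPullback_po (n + 1) S)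
  · rw [mulOver_toBase, show mulZ.{u} ≫ CohB1.ProjSpace.toSpec (n + 1) Z.{u} =
      segreZ ≫ CohB1.ProjSpace.toSpec (n * 1 + n + 1) Z.{u} from specULiftZIsTerminal.hom_ext _ _]
    exact isPullback_toQ S n 1
  · simp [mulOver]

lemma isFinite_mulOver (n : ℕ) : IsFinite (mulOver S n) :=
  MorphismProperty.of_isPullback (isPullback_mulOver S n) isFinite_mulZ

lemma surjective_mulOver (n : ℕ) : Surjective (mulOver S n) :=
  MorphismProperty.of_isPullback (isPullback_mulOver S n) surjective_mulZ

lemma eq_pt_one {Y : Scheme.{u}} (a : Y ⟶ PZ.{u} 0) :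
    a = pt (n := 0) (fun _ => 1) 0 isUnit_one := by
  obtain ⟨v, hv, e, h1⟩ := exists_pt a 0 (eq_top_iff.mpr fun y _ => by
    obtain ⟨c, hc⟩ := TopologicalSpace.Opens.mem_iSup.mp
      (show a y ∈ ⨆ c, Dplus.{u} (n := 0) c by rw [iSup_Dplus]; trivial)
    obtain rfl : c = 0 := Fin.ext (by omega)
    exact hc)
  have : v = fun _ => 1 := funext fun j => by
    obtain rfl : j = 0 := Fin.ext (by omega)
    exact h1
  subst this
  exact e

lemma isIso_toBase_zero : IsIso (CohB1.ProjSpaceOver.toBase 0 S) := by
  refine ⟨poLift (pt (n := 0) (fun _ => 1) 0 isUnit_one) (𝟙 S), po_ext ?_ ?_, poLift_toBase _ _⟩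
  · rw [Category.assoc, poLift_toPZ, comp_pt, Category.id_comp, eq_pt_one (toPZ 0 S)]
    congr 1
    exact funext fun _ => map_one _
  · rw [Category.assoc, poLift_toBase, Category.comp_id, Category.id_comp]

/-- The `n`-fold fibre power of `P^1_S`. -/
abbrev W (n : ℕ) : Scheme.{u} :=
  widePullback S (fun _ : Fin n => CohB1.ProjSpaceOver 1 S) (fun _ => CohB1.ProjSpaceOver.toBase 1 S)

/-- Its structure morphism. -/
abbrev baseW (n : ℕ) : W S n ⟶ S :=
  WidePullback.base (fun _ : Fin n => CohB1.ProjSpaceOver.toBase 1 S)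

lemma isIso_baseW_zero : IsIso (baseW S 0) := by
  refine ⟨WidePullback.lift (𝟙 S) (fun i => i.elim0) (fun i => i.elim0),
    WidePullback.hom_ext _ _ _ (fun i => i.elim0) ?_, WidePullback.lift_base ..⟩
  rw [Category.assoc, WidePullback.lift_base, Category.comp_id, Category.id_comp]

/-- Splitting off the last factor. -/
def splitLast (n : ℕ) : W S (n + 1) ⟶ pullback (baseW S n) (CohB1.ProjSpaceOver.toBase 1 S) :=
  pullback.lift
    (WidePullback.lift (baseW S (n + 1)) (fun i => WidePullback.π _ i.castSucc)
      (fun i => WidePullback.π_arrow _ _))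
    (WidePullback.π _ (Fin.last n))
    (by rw [WidePullback.lift_base, WidePullback.π_arrow])

lemma splitLast_fst (n : ℕ) :
    splitLast S n ≫ pullback.fst _ _ =
      WidePullback.lift (baseW S (n + 1)) (fun i => WidePullback.π _ i.castSucc)
        (fun i => WidePullback.π_arrow _ _) := pullback.lift_fst ..

lemma splitLast_snd (n : ℕ) :
    splitLast S n ≫ pullback.snd _ _ = WidePullback.π _ (Fin.last n) := pullback.lift_snd ..

lemma splitLast_fst_base (n : ℕ) :
    splitLast S n ≫ pullback.fst _ _ ≫ baseW S n = baseW S (n + 1) := by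
  rw [← Category.assoc, splitLast_fst]
  exact WidePullback.lift_base ..

/-- Adjoining the last factor. -/
def joinLast (n : ℕ) : pullback (baseW S n) (CohB1.ProjSpaceOver.toBase 1 S) ⟶ W S (n + 1) :=
  WidePullback.lift (pullback.fst _ _ ≫ baseW S n)
    (Fin.lastCases (pullback.snd _ _) (fun i => pullback.fst _ _ ≫ WidePullback.π _ i))
    (fun j => by
      induction j using Fin.lastCases with
      | last => simp [pullback.condition]
      | cast i => simp)

lemma joinLast_base (n : ℕ) : joinLast S n ≫ baseW S (n + 1) = pullback.fst _ _ ≫ baseW S n :=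
  WidePullback.lift_base ..

lemma joinLast_last (n : ℕ) :
    joinLast S n ≫ WidePullback.π _ (Fin.last n) = pullback.snd _ _ :=
  (WidePullback.lift_π ..).trans (by simp)

lemma joinLast_cast (n : ℕ) (i : Fin n) :
    joinLast S n ≫ WidePullback.π _ i.castSucc = pullback.fst _ _ ≫ WidePullback.π _ i :=
  (WidePullback.lift_π ..).trans (by simp)

lemma isIso_splitLast (n : ℕ) : IsIso (splitLast S n) := by
  refine ⟨joinLast S n, WidePullback.hom_ext _ _ _ (fun j => ?_) ?_, ?_⟩
  · rw [Category.id_comp, Category.assoc]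
    induction j using Fin.lastCases with
    | last => rw [joinLast_last, splitLast_snd]
    | cast i =>
      rw [joinLast_cast, ← Category.assoc, splitLast_fst]
      exact WidePullback.lift_π ..
  · rw [Category.id_comp, Category.assoc, joinLast_base, splitLast_fst_base]
  · apply pullback.hom_ext
    · rw [Category.id_comp, Category.assoc, splitLast_fst]
      refine WidePullback.hom_ext _ _ _ (fun i => ?_) ?_
      · rw [Category.assoc, WidePullback.lift_π]
        exact joinLast_cast S n i
      · rw [Category.assoc, WidePullback.lift_base]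
        exact joinLast_base S n
    · rw [Category.id_comp, Category.assoc, splitLast_snd, joinLast_last]

theorem exists_mul (n : ℕ) : ∃ φ : W S n ⟶ CohB1.ProjSpaceOver n S,
    IsFinite φ ∧ Surjective φ ∧ φ ≫ CohB1.ProjSpaceOver.toBase n S = baseW S n := by
  induction n with
  | zero =>
    haveI := isIso_toBase_zero S
    haveI := isIso_baseW_zero S
    exact ⟨baseW S 0 ≫ inv (CohB1.ProjSpaceOver.toBase 0 S), inferInstance, inferInstance, by simp⟩
  | succ n ih =>
    obtain ⟨φ, hφ, hφs, e⟩ := ih
    let P := pullback (baseW S n) (CohB1.ProjSpaceOver.toBase 1 S)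
    let m : P ⟶ pullback (CohB1.ProjSpaceOver.toBase n S) (CohB1.ProjSpaceOver.toBase 1 S) :=
      pullback.lift (pullback.fst _ _ ≫ φ) (pullback.snd _ _)
        (by rw [Category.assoc, e, pullback.condition])
    have sq : IsPullback (pullback.fst (baseW S n) (CohB1.ProjSpaceOver.toBase 1 S)) m φ
        (pullback.fst _ _) := by
      refine IsPullback.of_bot ?_ (pullback.lift_fst ..).symm
        (IsPullback.of_hasPullback (CohB1.ProjSpaceOver.toBase n S) (CohB1.ProjSpaceOver.toBase 1 S))
      rw [pullback.lift_snd, e]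
      exact IsPullback.of_hasPullback _ _
    haveI : IsFinite m := MorphismProperty.of_isPullback sq hφ
    haveI : Surjective m := MorphismProperty.of_isPullback sq hφs
    haveI := isFinite_mulOver S n
    haveI := surjective_mulOver S n
    haveI := isIso_splitLast S n
    refine ⟨splitLast S n ≫ m ≫ mulOver S n, inferInstance, inferInstance, ?_⟩
    rw [Category.assoc, Category.assoc, mulOver_toBase, pullback.lift_fst_assoc, Category.assoc, e,
      splitLast_fst_base]

end MulFormLib
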