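import Groth.Agent.ChowLib.Embed
import Mathlib.FieldTheory.IsAlgClosed.AlgebraicClosure
import Mathlib.AlgebraicGeometry.Morphisms.Proper
import Mathlib.Algebra.Polynomial.Div
import Mathlib.AlgebraicGeometry.ResidueField

/-!
# Multiplication of binary forms `P^n × P^1 ⟶ P^(n+1)` over the integers
-/

set_option autoImplicit false
set_option linter.style.haveILetI false
universe u

open CategoryTheory CategoryTheory.Limits AlgebraicGeometry MvPolynomial HomogeneousLocalization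
open ChowLib

noncomputable section

namespace MulFormLib

local notation "PD" => Dplus

variable {n : ℕ} {Y Y' : Scheme.{u}}

section Coeff
variable {R : Type*} [CommRing R]

/-- The coefficients of `(∑ v c t^c) * (w 0 * t + w 1)`. -/
def mulVec (v : Fin (n + 1) → R) (w : Fin 2 → R) : Fin (n + 2) → R := fun c =>
  (if h : (c : ℕ) < n + 1 then v ⟨c, h⟩ * w 1 else 0) +
    (if h : 0 < (c : ℕ) then v ⟨(c : ℕ) - 1, by omega⟩ * w 0 else 0)

theorem mulVec_map {R' : Type*} [CommRing R'] (f : R →+* R') (v : Fin (n + 1) → R) (w : Fin 2 → R)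
    (c : Fin (n + 2)) : f (mulVec v w c) = mulVec (fun j => f (v j)) (fun j => f (w j)) c := by
  simp only [mulVec]
  split_ifs <;> simp

theorem mulVec_smul (v v' : Fin (n + 1) → R) (w w' : Fin 2 → R) (a a' b b' : R)
    (hv : ∀ j, v j * a' = v' j * a) (hw : ∀ j, w j * b' = w' j * b) (c : Fin (n + 2)) :
    mulVec v w c * (a' * b') = mulVec v' w' c * (a * b) := by
  simp only [mulVec, add_mul]
  congr 1
  · split_ifs with h
    · calc v ⟨c, h⟩ * w 1 * (a' * b') = (v ⟨c, h⟩ * a') * (w 1 * b') := by ring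
        _ = _ := by rw [hv, hw]; ring
    · ring
  · split_ifs with h
    · calc v _ * w 0 * (a' * b') = (v _ * a') * (w 0 * b') := by ring
        _ = _ := by rw [hv, hw]; ring
    · ring

theorem exists_mulVec_ne_zero {K : Type*} [Field K] (v : Fin (n + 1) → K) (w : Fin 2 → K)
    (hv : ∃ a, v a ≠ 0) (hw : ∃ b, w b ≠ 0) : ∃ c, mulVec v w c ≠ 0 := by
  by_contra! h
  obtain ⟨a, ha⟩ := hv
  obtain ⟨b, hb⟩ := hw
  by_cases h0 : w 0 = 0
  · have h1 : w 1 ≠ 0 := by
      fin_cases b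
      · exact absurd h0 hb
      · exact hb
    have := h ⟨a, by omega⟩
    simp only [mulVec, h0, mul_zero, dite_eq_ite, ite_self, add_zero] at this
    rw [dif_pos a.2] at this
    exact mul_ne_zero ha h1 this
  · have key : ∀ m : ℕ, ∀ j : Fin (n + 1), n - (j : ℕ) = m → v j = 0 := by
      intro m
      induction m with
      | zero =>
        intro j hj
        have := h ⟨(j : ℕ) + 1, by omega⟩
        simp only [mulVec] at this
        rw [dif_neg (by omega), dif_pos (by omega), zero_add] at this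
        simpa [h0] using this
      | succ m ih =>
        intro j hj
        have hlt : (j : ℕ) + 1 < n + 1 := by omega
        have := h ⟨(j : ℕ) + 1, by omega⟩
        simp only [mulVec] at this
        rw [dif_pos hlt, dif_pos (by omega), ih ⟨(j : ℕ) + 1, hlt⟩ (by simp only; omega), zero_mul, zero_add] at this
        simpa [h0] using this
    exact ha (key _ a rfl)

theorem exists_mulVec_eq {K : Type*} [Field K] [IsAlgClosed K] (z : Fin (n + 2) → K) (hz : ∃ c, z c ≠ 0) :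
    ∃ (v : Fin (n + 1) → K) (w : Fin 2 → K), (∀ c, mulVec v w c = z c) ∧ (∃ a, v a ≠ 0) ∧ (∃ b, w b ≠ 0) := by
  suffices ∃ (v : Fin (n + 1) → K) (w : Fin 2 → K), (∀ c, mulVec v w c = z c) ∧ (∃ b, w b ≠ 0) by
    obtain ⟨v, w, h, hb⟩ := this
    refine ⟨v, w, h, ?_, hb⟩
    by_contra! hv
    obtain ⟨c, hc⟩ := hz
    apply hc
    rw [← h c]
    simp [mulVec, hv]
  by_cases htop : z ⟨n + 1, by omega⟩ = 0
  · refine ⟨fun j => z ⟨j, by omega⟩, ![0, 1], fun c => ?_, ⟨1, by simp⟩⟩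
    simp only [mulVec, Matrix.cons_val_zero, mul_zero, dite_eq_ite, ite_self, add_zero,
      Matrix.cons_val_one, mul_one]
    split_ifs with h
    · rfl
    · have : c = ⟨n + 1, by omega⟩ := Fin.ext (by simp only; omega)
      rw [this, htop]
  · let P : Polynomial K := ∑ c : Fin (n + 2), Polynomial.monomial (c : ℕ) (z c)
    have hP : ∀ c : Fin (n + 2), P.coeff c = z c := fun c => by
      simp [P, Polynomial.finsetSum_coeff, Polynomial.coeff_monomial, Fin.val_inj]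
    have hdeg : P.natDegree = n + 1 := by
      refine le_antisymm ?_ (Polynomial.le_natDegree_of_ne_zero ?_)
      · refine Polynomial.natDegree_le_iff_coeff_eq_zero.mpr fun m hm => ?_
        simp only [P, Polynomial.finsetSum_coeff, Polynomial.coeff_monomial]
        exact Finset.sum_eq_zero fun c _ => if_neg (by omega)
      · rw [show n + 1 = ((⟨n + 1, by omega⟩ : Fin (n + 2)) : ℕ) from rfl, hP]; exact htop
    have hP0 : P ≠ 0 := fun h => by rw [h, Polynomial.natDegree_zero] at hdeg; omega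
    obtain ⟨r, hr⟩ := IsAlgClosed.exists_root P (by
      rw [Polynomial.degree_eq_natDegree hP0, hdeg]; exact_mod_cast (Nat.succ_ne_zero n))
    obtain ⟨V, hV⟩ := (Polynomial.dvd_iff_isRoot.mpr hr : Polynomial.X - Polynomial.C r ∣ P)
    have hVd : V.natDegree ≤ n := by
      have hV0 : V ≠ 0 := fun h => hP0 (by rw [hV, h, mul_zero])
      have := hdeg
      rw [hV, Polynomial.natDegree_mul (Polynomial.X_sub_C_ne_zero r) hV0,
        Polynomial.natDegree_X_sub_C] at this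
      omega
    refine ⟨fun j => V.coeff j, ![1, -r], fun c => ?_, ⟨0, by simp⟩⟩
    rw [← hP c, hV]
    simp only [mulVec, Matrix.cons_val_zero, mul_one, Matrix.cons_val_one]
    rcases Nat.eq_zero_or_pos (c : ℕ) with h | h
    · rw [dif_pos (by omega), dif_neg (by omega), add_zero, h]
      simp [Polynomial.mul_coeff_zero, mul_comm]
    · obtain ⟨e, he⟩ := Nat.exists_eq_succ_of_ne_zero h.ne'
      rw [dif_pos h, he, Nat.succ_eq_add_one, sub_mul, Polynomial.coeff_sub, Polynomial.coeff_X_mul,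
        Polynomial.coeff_C_mul]
      have hlast : ¬ ((c : ℕ) < n + 1) → V.coeff (e + 1) = 0 := fun hc =>
        Polynomial.coeff_eq_zero_of_natDegree_lt (by omega)
      split_ifs with h2
      · simp only [Nat.succ_sub_one]; simp; ring
      · rw [hlast (by omega)]; simp [he]

end Coeff

/-- Products of pairs defining the same points define the same point. -/
theorem pt_mulVec_congr {v v' : Fin (n + 1) → Γ(Y, ⊤)} {w w' : Fin 2 → Γ(Y, ⊤)}
    {a a' : Fin (n + 1)} {b b' : Fin 2} {c c' : Fin (n + 2)} (ha : IsUnit (v a)) (hb : IsUnit (w b))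
    (ha' : IsUnit (v' a')) (hb' : IsUnit (w' b')) (hc : IsUnit (mulVec v w c))
    (hc' : IsUnit (mulVec v' w' c')) (hv : pt v a ha = pt v' a' ha') (hw : pt w b hb = pt w' b' hb') :
    pt (mulVec v w) c hc = pt (mulVec v' w') c' hc' := by
  have h := mulVec_smul v v' w w' (v a') (v' a') (w b') (w' b')
    (prop_of_pt_eq v v' a a' ha ha' hv) (prop_of_pt_eq w w' b b' hb hb' hw)
  have hu : IsUnit (mulVec v w c') := by
    have h1 := h c'
    have h2 : IsUnit (mulVec v' w' c' * (v a' * w b')) :=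
      hc'.mul ((isUnit_of_pt_eq v v' a a' ha ha' hv).mul (isUnit_of_pt_eq w w' b b' hb hb' hw))
    rw [← h1] at h2
    exact isUnit_of_mul_isUnit_left h2
  refine pt_eq_of_prop _ _ _ _ _ _ hu fun j => ?_
  have h1 := h j
  have h2 := h c'
  refine (ha'.mul hb').mul_right_cancel ?_
  linear_combination (mulVec v' w' c') * h1 - (mulVec v' w' j) * h2

variable (n) in
/-- An index for the standard cover. -/
abbrev Idx : Type := (Fin (n + 1) × Fin (1 + 1)) × Fin (n + 2)

/-- First coordinates. -/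
def vecV (s : Fin (n + 1) × Fin (1 + 1)) : Fin (n + 1) → Γ((segreOpen.{u} (m := 1) s).toScheme, ⊤) :=
  (exists_pts (segreOpen.{u} s).ι s (preimage_ι_self _)).choose

/-- Second coordinates. -/
def vecW (s : Fin (n + 1) × Fin (1 + 1)) : Fin (1 + 1) → Γ((segreOpen.{u} (n := n) (m := 1) s).toScheme, ⊤) :=
  (exists_pts (segreOpen.{u} s).ι s (preimage_ι_self _)).choose_spec.choose

theorem vec_spec (s : Fin (n + 1) × Fin (1 + 1)) :
    ∃ (hv : IsUnit (vecV.{u} s s.1)) (hw : IsUnit (vecW.{u} s s.2)),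
      (segreOpen.{u} s).ι ≫ pullback.fst _ _ = pt (vecV s) s.1 hv ∧
      (segreOpen.{u} s).ι ≫ pullback.snd _ _ = pt (vecW s) s.2 hw :=
  (exists_pts (segreOpen.{u} s).ι s (preimage_ι_self _)).choose_spec.choose_spec

/-- The standard cover. -/
def mulOpen (i : Idx n) : (Q.{u} n 1).Opens :=
  (segreOpen.{u} i.1).ι ''ᵁ (segreOpen.{u} i.1).toScheme.basicOpen (mulVec (vecV i.1) (vecW i.1) i.2)

theorem iSup_mulOpen : ⨆ i : Idx n, mulOpen.{u} i = ⊤ := by
  rw [eq_top_iff]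
  intro x _
  have hx : x ∈ (⨆ s, segreOpen.{u} (n := n) (m := 1) s) := by rw [iSup_segreOpen]; trivial
  obtain ⟨s, hs⟩ := TopologicalSpace.Opens.mem_iSup.mp hx
  let y : (segreOpen.{u} s).toScheme := ⟨x, hs⟩
  obtain ⟨hv, hw, -, -⟩ := vec_spec.{u} s
  let ev := (segreOpen.{u} s).toScheme.evaluation ⊤ y trivial
  obtain ⟨c, hc⟩ := exists_mulVec_ne_zero (fun j => ev.hom (vecV s j)) (fun j => ev.hom (vecW s j))
    ⟨s.1, (hv.map ev.hom).ne_zero⟩ ⟨s.2, (hw.map ev.hom).ne_zero⟩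
  rw [← mulVec_map] at hc
  exact TopologicalSpace.Opens.mem_iSup.mpr ⟨(s, c), y,
    ((segreOpen.{u} s).toScheme.evaluation_ne_zero_iff_mem_basicOpen y (TopologicalSpace.Opens.mem_top y) _).mp hc, rfl⟩

theorem mulOpen_le (i : Idx n) : mulOpen.{u} i ≤ segreOpen.{u} i.1 := Scheme.Opens.ι_image_le _ _

theorem exists_mul_pts {i : Idx n} (x : Y ⟶ Q.{u} n 1) (h : x ⁻¹ᵁ mulOpen i = ⊤) :
    ∃ (v : Fin (n + 1) → Γ(Y, ⊤)) (w : Fin (1 + 1) → Γ(Y, ⊤)) (hv : IsUnit (v i.1.1))
      (hw : IsUnit (w i.1.2)) (_ : IsUnit (mulVec v w i.2)),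
      x ≫ pullback.fst _ _ = pt v i.1.1 hv ∧ x ≫ pullback.snd _ _ = pt w i.1.2 hw := by
  let U := segreOpen.{u} i.1
  have hr : Set.range x ⊆ Set.range U.ι := by
    rintro _ ⟨y, rfl⟩
    have : y ∈ x ⁻¹ᵁ mulOpen i := by rw [h]; trivial
    rw [Scheme.Opens.range_ι]
    exact mulOpen_le i this
  let x' := IsOpenImmersion.lift U.ι x hr
  have hx' : x' ≫ U.ι = x := IsOpenImmersion.lift_fac _ _ _
  obtain ⟨hv, hw, e1, e2⟩ := vec_spec.{u} i.1
  refine ⟨fun j => x'.appTop (vecV i.1 j), fun j => x'.appTop (vecW i.1 j), hv.map x'.appTop.hom,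
    hw.map x'.appTop.hom, ?_, ?_, ?_⟩
  · apply isUnit_of_basicOpen_eq_top
    rw [← mulVec_map x'.appTop.hom]
    erw [← Scheme.preimage_basicOpen_top]
    refine eq_top_iff.mpr fun y _ => ?_
    have hy : y ∈ x ⁻¹ᵁ mulOpen i := by rw [h]; trivial
    rw [← hx'] at hy
    obtain ⟨z, hz, hzy⟩ := hy
    have e : z = x' y := U.ι.isOpenEmbedding.injective hzy
    change x' y ∈ U.toScheme.basicOpen (mulVec (vecV i.1) (vecW i.1) i.2)
    exact e ▸ hz
  · rw [← hx', Category.assoc, e1, comp_pt]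
  · rw [← hx', Category.assoc, e2, comp_pt]

/-- The multiplication on a member of the standard cover. -/
def mulLoc (i : Idx n) : (mulOpen.{u} i).toScheme ⟶ PZ.{u} (n + 1) :=
  let h := exists_mul_pts (mulOpen.{u} i).ι (preimage_ι_self _)
  pt (mulVec h.choose h.choose_spec.choose) i.2 h.choose_spec.choose_spec.choose_spec.choose_spec.choose

theorem comp_mulLoc {i : Idx n} (x : Y ⟶ (mulOpen.{u} i).toScheme)
    (v : Fin (n + 1) → Γ(Y, ⊤)) (w : Fin (1 + 1) → Γ(Y, ⊤)) {a : Fin (n + 1)} {b : Fin (1 + 1)}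
    {c : Fin (n + 2)} (hv : IsUnit (v a)) (hw : IsUnit (w b)) (hc : IsUnit (mulVec v w c))
    (e1 : x ≫ (mulOpen.{u} i).ι ≫ pullback.fst _ _ = pt v a hv)
    (e2 : x ≫ (mulOpen.{u} i).ι ≫ pullback.snd _ _ = pt w b hw) :
    x ≫ mulLoc i = pt (mulVec v w) c hc := by
  let h := exists_mul_pts (mulOpen.{u} i).ι (preimage_ι_self _)
  obtain ⟨h1, h2⟩ := h.choose_spec.choose_spec.choose_spec.choose_spec.choose_spec
  rw [h1, comp_pt] at e1
  rw [h2, comp_pt] at e2
  rw [mulLoc, comp_pt]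
  have := pt_mulVec_congr (c := i.2) _ _ _ _ (by
    have hu := h.choose_spec.choose_spec.choose_spec.choose_spec.choose.map x.appTop.hom
    rwa [mulVec_map] at hu) hc e1 e2
  convert this using 2
  funext j
  exact mulVec_map x.appTop.hom _ _ j

/-- Multiplication of forms over `ℤ`. -/
def mulZ : Q.{u} n 1 ⟶ PZ.{u} (n + 1) :=
  ((Q.{u} n 1).openCoverOfIsOpenCover mulOpen
    (iSup_mulOpen.{u} (n := n))).glueMorphisms mulLoc fun c d => by
    obtain ⟨v, w, hv, hw, hc, e1, e2⟩ := exists_mul_pts (i := c)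
      (pullback.fst (mulOpen.{u} c).ι (mulOpen.{u} d).ι ≫ (mulOpen.{u} c).ι)
      (by rw [Scheme.Hom.comp_preimage, preimage_ι_self]; rfl)
    simp only [Category.assoc] at e1 e2
    refine (comp_mulLoc _ v w hv hw hc e1 e2).trans (comp_mulLoc _ v w hv hw hc ?_ ?_).symm
    · exact (pullback.condition_assoc _).symm.trans e1
    · exact (pullback.condition_assoc _).symm.trans e2

theorem ι_mulZ (i : Idx n) : (mulOpen.{u} i).ι ≫ mulZ = mulLoc i :=
  ((Q.{u} n 1).openCoverOfIsOpenCover mulOpen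
    (iSup_mulOpen.{u} (n := n))).ι_glueMorphisms _ _ i

theorem comp_mulZ (x : Y ⟶ Q.{u} n 1)
    (v : Fin (n + 1) → Γ(Y, ⊤)) (w : Fin (1 + 1) → Γ(Y, ⊤)) {a : Fin (n + 1)} {b : Fin (1 + 1)}
    {c : Fin (n + 2)} (hv : IsUnit (v a)) (hw : IsUnit (w b)) (hc : IsUnit (mulVec v w c))
    (e1 : x ≫ pullback.fst _ _ = pt v a hv) (e2 : x ≫ pullback.snd _ _ = pt w b hw) :
    x ≫ mulZ = pt (mulVec v w) c hc := by
  refine Scheme.hom_ext_of_forall _ _ fun y => ?_
  obtain ⟨i, hi⟩ := TopologicalSpace.Opens.mem_iSup.mp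
    (show x y ∈ ⨆ i : Idx n, mulOpen.{u} i by rw [iSup_mulOpen]; trivial)
  refine ⟨x ⁻¹ᵁ mulOpen i, hi, ?_⟩
  rw [← Category.assoc, ← morphismRestrict_ι, Category.assoc, ι_mulZ, comp_pt]
  refine (comp_mulLoc _ _ _ (hv.map (x ⁻¹ᵁ mulOpen i).ι.appTop.hom) (hw.map (x ⁻¹ᵁ mulOpen i).ι.appTop.hom)
    (c := c) (by
      have h1 := hc.map (x ⁻¹ᵁ mulOpen i).ι.appTop.hom
      rwa [mulVec_map] at h1) ?_ ?_).trans ?_
  · rw [← Category.assoc, morphismRestrict_ι, Category.assoc, e1, comp_pt]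
  · rw [← Category.assoc, morphismRestrict_ι, Category.assoc, e2, comp_pt]
  · congr 1
    funext j
    exact (mulVec_map (x ⁻¹ᵁ mulOpen i).ι.appTop.hom _ _ j).symm

/-- The linear form of the coefficient `c` in the Segre coordinates. -/
def linForm (c : Fin (n + 2)) : MvPolynomial (Fin (n * 1 + n + 1 + 1)) Z.{u} :=
  (if h : (c : ℕ) < n + 1 then X (pairIdx n 1 (⟨c, h⟩, 1)) else 0) +
    (if h : 0 < (c : ℕ) then X (pairIdx n 1 (⟨(c : ℕ) - 1, by omega⟩, 0)) else 0)

theorem linForm_mem (c : Fin (n + 2)) : linForm.{u} c ∈ gr.{u} (n * 1 + n + 1) 1 := by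
  refine add_mem ?_ ?_ <;> split_ifs <;> first | exact X_mem _ | exact zero_mem _

theorem evalV_linForm (v : Fin (n + 1) → Γ(Y, ⊤)) (w : Fin (1 + 1) → Γ(Y, ⊤)) (c : Fin (n + 2)) :
    evalV (pairVec v w) (linForm.{u} c) = mulVec v w c := by
  simp only [linForm, mulVec, map_add]
  split_ifs <;> simp [pairVec_apply]

theorem pt_preimage_linear {m : ℕ} (v : Fin (m + 1) → Γ(Y, ⊤)) (i : Fin (m + 1)) (hu : IsUnit (v i))
    (ℓ : MvPolynomial (Fin (m + 1)) Z.{u}) (hℓ : ℓ ∈ gr.{u} m 1) :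
    pt v i hu ⁻¹ᵁ Proj.basicOpen (gr.{u} m) ℓ = Y.basicOpen (evalV v ℓ) := by
  change (toSpecOf _ ≫ Proj.awayι (gr.{u} m) (X i) (X_mem i) one_pos) ⁻¹ᵁ
    Proj.basicOpen (gr.{u} m) ℓ = _
  rw [Scheme.Hom.comp_preimage, Proj.awayι_preimage_basicOpen _ (X_mem i) one_pos hℓ one_pos,
    toSpecOf, Scheme.Hom.comp_preimage]
  erw [show Spec.map (CommRingCat.ofHom (awayEval v (X i) (by simpa using hu))) ⁻¹ᵁ
    PrimeSpectrum.basicOpen (Away.isLocalizationElem (X_mem i) hℓ) =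
    PrimeSpectrum.basicOpen (awayEval v (X i) (by simpa using hu)
      (Away.isLocalizationElem (X_mem i) hℓ)) from rfl]
  erw [Scheme.toSpecΓ_preimage_basicOpen]
  have h1 := awayEval_mk v (X_mem.{u} i) (by simpa using hu) 1 (ℓ ^ 1)
    (by simpa using hℓ)
  simp only [evalV_X, map_pow, pow_one] at h1
  conv_rhs => rw [← h1]
  rw [Scheme.basicOpen_mul, Y.basicOpen_of_isUnit hu, inf_top_eq]
  simp only [Away.isLocalizationElem, pow_one]

theorem mulZ_preimage (c : Fin (n + 2)) :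
    mulZ ⁻¹ᵁ PD c = segreZ ⁻¹ᵁ Proj.basicOpen (gr.{u} (n * 1 + n + 1)) (linForm c) := by
  ext x
  obtain ⟨i, hi⟩ := TopologicalSpace.Opens.mem_iSup.mp
    (show x ∈ ⨆ i : Idx n, mulOpen.{u} i by rw [iSup_mulOpen]; trivial)
  obtain ⟨v, w, hv, hw, hc, e1, e2⟩ := exists_mul_pts (mulOpen.{u} i).ι (preimage_ι_self _)
  let y : (mulOpen.{u} i).toScheme := ⟨x, hi⟩
  change y ∈ ((mulOpen.{u} i).ι ≫ mulZ) ⁻¹ᵁ PD c ↔
    y ∈ ((mulOpen.{u} i).ι ≫ segreZ) ⁻¹ᵁ Proj.basicOpen (gr.{u} (n * 1 + n + 1)) (linForm c)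
  rw [comp_mulZ _ v w hv hw hc e1 e2, comp_segreZ _ v w hv hw e1 e2, pt_preimage,
    pt_preimage_linear _ _ _ _ (linForm_mem c), evalV_linForm]

theorem isAffineHom_mulZ : IsAffineHom (mulZ.{u} (n := n)) := by
  refine isAffineHom_of_forall_exists_isAffineOpen _ fun y => ?_
  obtain ⟨c, hc⟩ := TopologicalSpace.Opens.mem_iSup.mp
    (show y ∈ ⨆ c, Dplus.{u} (n := n + 1) c by rw [iSup_Dplus]; trivial)
  refine ⟨Dplus c, hc, isAffineOpen_Dplus c, ?_⟩
  rw [mulZ_preimage]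
  haveI := isClosedImmersion_segreZ.{u} (n := n) (m := 1)
  have h : IsAffineOpen (X := PZ.{u} (n * 1 + n + 1))
      (Proj.basicOpen (gr.{u} (n * 1 + n + 1)) (linForm.{u} c)) :=
    Proj.isAffineOpen_basicOpen _ _ (linForm_mem c) one_pos
  exact h.preimage segreZ

theorem isProper_mulZ : IsProper (mulZ.{u} (n := n)) := by
  haveI : IsProper (pullback.fst (CohB1.ProjSpace.toSpec n Z.{u}) (CohB1.ProjSpace.toSpec 1 Z.{u})) :=
    MorphismProperty.pullback_fst _ _ inferInstance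
  have e : mulZ ≫ CohB1.ProjSpace.toSpec (n + 1) Z.{u} =
      pullback.fst _ _ ≫ CohB1.ProjSpace.toSpec n Z.{u} := specULiftZIsTerminal.hom_ext _ _
  haveI : IsProper (mulZ ≫ CohB1.ProjSpace.toSpec (n + 1) Z.{u}) := by rw [e]; infer_instance
  exact IsProper.of_comp mulZ (CohB1.ProjSpace.toSpec (n + 1) Z.{u})

theorem isFinite_mulZ : IsFinite (mulZ.{u} (n := n)) :=
  IsFinite.iff_isProper_and_isAffineHom.mpr ⟨isProper_mulZ, isAffineHom_mulZ⟩

theorem surjective_mulZ : Surjective (mulZ.{u} (n := n)) := by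
  refine ⟨fun y => ?_⟩
  obtain ⟨j, hj⟩ := TopologicalSpace.Opens.mem_iSup.mp
    (show y ∈ ⨆ c, Dplus.{u} (n := n + 1) c by rw [iSup_Dplus]; trivial)
  let K : Type u := AlgebraicClosure ((PZ.{u} (n + 1)).residueField y)
  let g : Spec (CommRingCat.of K) ⟶ PZ.{u} (n + 1) :=
    Spec.map (CommRingCat.ofHom (algebraMap ((PZ.{u} (n + 1)).residueField y) K)) ≫
      (PZ.{u} (n + 1)).fromSpecResidueField y
  have hg : ∀ x, g x = y := fun x =>
    Set.mem_singleton_iff.mp ((Scheme.range_fromSpecResidueField y).subset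
      ⟨Spec.map (CommRingCat.ofHom (algebraMap ((PZ.{u} (n + 1)).residueField y) K)) x, rfl⟩)
  obtain ⟨z, hz, ez, -⟩ := exists_pt g j (eq_top_iff.mpr fun x _ => by
    change g x ∈ Dplus j
    rw [hg]; exact hj)
  let e := (Scheme.ΓSpecIso (CommRingCat.of K)).commRingCatIsoToRingEquiv
  obtain ⟨v, w, h, ⟨a, ha⟩, ⟨b, hb⟩⟩ := exists_mulVec_eq (fun c => e (z c)) ⟨j, (hz.map e).ne_zero⟩
  let v' : Fin (n + 1) → Γ(Spec (CommRingCat.of K), ⊤) := fun c => e.symm (v c)
  let w' : Fin (1 + 1) → Γ(Spec (CommRingCat.of K), ⊤) := fun c => e.symm (w c)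
  have hv : IsUnit (v' a) := (isUnit_iff_ne_zero.mpr ha).map e.symm
  have hw : IsUnit (w' b) := (isUnit_iff_ne_zero.mpr hb).map e.symm
  have hvw : mulVec v' w' = z := funext fun c => by
    have h1 := mulVec_map e.symm.toRingHom v w c
    rw [RingEquiv.toRingHom_eq_coe, RingHom.coe_coe, h c, e.symm_apply_apply] at h1
    exact h1.symm
  let x : Spec (CommRingCat.of K) ⟶ Q.{u} n 1 :=
    pullback.lift (pt v' a hv) (pt w' b hw) (specULiftZIsTerminal.hom_ext _ _)
  have hc : IsUnit (mulVec v' w' j) := hvw ▸ hz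
  have hx : x ≫ mulZ = g := by
    rw [comp_mulZ x v' w' hv hw hc (pullback.lift_fst ..) (pullback.lift_snd ..), ez]
    congr 1
  refine ⟨x (IsLocalRing.closedPoint K), ?_⟩
  rw [← Scheme.Hom.comp_apply, hx]
  exact hg _

end MulFormLib
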